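import Mathlib.LinearAlgebra.Dual.Lemmas
import Mathlib.RingTheory.LocalRing.Module
import Mathlib.LinearAlgebra.FiniteDimensional.Lemmas
import Mathlib.LinearAlgebra.Dimension.Finite

/-!
Linear algebra for the completed module of differentials:
* `exists_functionals`: if `φ : X → Y` has finite-dimensional kernel and cokernel with
  `dim ker ≤ dim coker` and `π : X → L^n` is onto, there are `n` linearly independent functionals
  `f` on `Y` with `f ∘ φ` factoring through `π`.
* `finrank_residueField_le`: the fibre rank of a finite module does not decrease under specialization.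
-/

set_option autoImplicit false

universe u v w

open TensorProduct

namespace Groth.Agent.Ega4late.H539.RankLin

section functionals

variable {L : Type u} [Field L] {X : Type v} {Y : Type w} [AddCommGroup X] [Module L X]
  [AddCommGroup Y] [Module L Y]

/-- A space of dimension at least `n` has `n` linearly independent functionals. -/
theorem exists_dual {W : Type w} [AddCommGroup W] [Module L W] [Module.Finite L W] (n : ℕ)
    (h : n ≤ Module.finrank L W) : ∃ f : Fin n → (W →ₗ[L] L), LinearIndependent L f := by
  let b := Module.finBasis L W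
  have h1 := b.dualBasis.linearIndependent
  exact ⟨fun i => b.dualBasis (Fin.castLE h i), h1.comp _ (Fin.castLE_injective h)⟩

theorem exists_functionals (φ : X →ₗ[L] Y) [Module.Finite L (LinearMap.ker φ)]
    [Module.Finite L (Y ⧸ LinearMap.range φ)]
    (h : Module.finrank L (LinearMap.ker φ) ≤ Module.finrank L (Y ⧸ LinearMap.range φ)) (n : ℕ)
    (π : X →ₗ[L] (Fin n → L)) (hπ : Function.Surjective π) :
    ∃ f : Fin n → (Y →ₗ[L] L), LinearIndependent L f ∧ ∀ i x, π x = 0 → f i (φ x) = 0 := by
  obtain ⟨s, hs⟩ := LinearMap.exists_rightInverse_of_surjective π (LinearMap.range_eq_top.mpr hπ)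
  have hs' : ∀ v, π (s v) = v := fun v => LinearMap.congr_fun hs v
  let P : Submodule L Y := (LinearMap.ker π).map φ
  have hP : P ≤ LinearMap.range φ := LinearMap.map_le_range
  let W := Y ⧸ P
  let φ' : (Fin n → L) →ₗ[L] W := P.mkQ ∘ₗ φ ∘ₗ s
  -- kernel of `φ'`
  have hker : LinearMap.ker φ' ≤ (LinearMap.ker φ).map π := by
    intro v hv
    have h1 : P.mkQ (φ (s v)) = 0 := hv
    rw [Submodule.mkQ_apply, Submodule.Quotient.mk_eq_zero] at h1
    obtain ⟨x, hx, hxv⟩ := h1
    refine ⟨s v - x, ?_, ?_⟩
    · change φ (s v - x) = 0
      rw [map_sub, hxv, sub_self]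
    · have hx' : π x = 0 := hx
      rw [map_sub, hs', hx', sub_zero]
  have hker' : Module.finrank L (LinearMap.ker φ') ≤ Module.finrank L (LinearMap.ker φ) :=
    (Submodule.finrank_mono hker).trans (Submodule.finrank_map_le π _)
  -- cokernel of `φ'`
  have hrange : LinearMap.range φ' = (LinearMap.range φ).map P.mkQ := by
    apply le_antisymm
    · rintro _ ⟨v, rfl⟩
      exact ⟨φ (s v), ⟨_, rfl⟩, rfl⟩
    · rintro _ ⟨_, ⟨x, rfl⟩, rfl⟩
      refine ⟨π x, ?_⟩
      change P.mkQ (φ (s (π x))) = P.mkQ (φ x)
      rw [Submodule.mkQ_apply, Submodule.mkQ_apply, Submodule.Quotient.eq]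
      refine ⟨s (π x) - x, ?_, by rw [map_sub]⟩
      change π (s (π x) - x) = 0
      rw [map_sub, hs', sub_self]
  have e : (W ⧸ LinearMap.range φ') ≃ₗ[L] (Y ⧸ LinearMap.range φ) :=
    (Submodule.quotEquivOfEq _ _ hrange).trans (Submodule.quotientQuotientEquivQuotient _ _ hP)
  have : Module.Finite L (W ⧸ LinearMap.range φ') := Module.Finite.equiv e.symm
  have hW : Module.Finite L W := Module.Finite.of_submodule_quotient (LinearMap.range φ')
  have h1 := LinearMap.finrank_range_add_finrank_ker φ'
  have h2 := Submodule.finrank_quotient_add_finrank (LinearMap.range φ')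
  rw [Module.finrank_fin_fun] at h1
  rw [e.finrank_eq] at h2
  have h3 : n ≤ Module.finrank L W := by omega
  obtain ⟨g, hg⟩ := exists_dual n h3
  refine ⟨fun i => g i ∘ₗ P.mkQ, ?_, ?_⟩
  · have h4 : Function.Injective (fun u : W →ₗ[L] L => u ∘ₗ P.mkQ) := by
      intro u u' huu
      ext y
      exact LinearMap.congr_fun huu y
    have h5 := hg.map' (LinearMap.lcomp L L P.mkQ) (LinearMap.ker_eq_bot.mpr h4)
    exact h5
  · intro i x hx
    change g i (P.mkQ (φ x)) = 0
    have : P.mkQ (φ x) = 0 := by
      rw [Submodule.mkQ_apply, Submodule.Quotient.mk_eq_zero]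
      exact ⟨x, hx, rfl⟩
    rw [this, map_zero]

end functionals

section fibre

variable {A : Type u} [CommRing A] {M : Type v} [AddCommGroup M] [Module A M] [Module.Finite A M]

/-- Elements whose classes span the fibre at `p` span the fibre at every generization `q` of `p`. -/
theorem span_fibre_of_le (p q : Ideal A) [p.IsPrime] [q.IsPrime] (hqp : q ≤ p) {ι : Type*} (m : ι → M)
    (h : Submodule.span p.ResidueField (Set.range fun i => (1 : p.ResidueField) ⊗ₜ[A] m i) = ⊤) :
    Submodule.span q.ResidueField (Set.range fun i => (1 : q.ResidueField) ⊗ₜ[A] m i) = ⊤ := by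
  let N : Submodule A M := Submodule.span A (Set.range m)
  -- for a prime `r`, spanning of the fibre is the vanishing of the fibre of the quotient
  have key : ∀ (r : Ideal A) [r.IsPrime],
      (Submodule.span r.ResidueField (Set.range fun i => (1 : r.ResidueField) ⊗ₜ[A] m i) = ⊤ ↔
        Subsingleton (r.ResidueField ⊗[A] (M ⧸ N))) := by
    intro r _
    have hex := lTensor_exact r.ResidueField (f := N.subtype) (g := N.mkQ)
      (LinearMap.exact_subtype_mkQ N) (Submodule.mkQ_surjective N)
    have hsurj := LinearMap.lTensor_surjective r.ResidueField (Submodule.mkQ_surjective N)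
    have hrange : ∀ x : r.ResidueField ⊗[A] M,
        x ∈ LinearMap.range (N.subtype.lTensor r.ResidueField) ↔
          x ∈ Submodule.span r.ResidueField (Set.range fun i => (1 : r.ResidueField) ⊗ₜ[A] m i) := by
      intro x
      constructor
      · rintro ⟨y, rfl⟩
        induction y with
        | zero => rw [map_zero]; exact zero_mem _
        | add a b ha hb => rw [map_add]; exact add_mem ha hb
        | tmul c n =>
          obtain ⟨n, hn⟩ := n
          rw [LinearMap.lTensor_tmul]
          change c ⊗ₜ[A] n ∈ _
          have : c ⊗ₜ[A] n = c • ((1 : r.ResidueField) ⊗ₜ[A] n) := by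
            rw [TensorProduct.smul_tmul', smul_eq_mul, mul_one]
          rw [this]
          refine Submodule.smul_mem _ _ ?_
          clear this
          have hn' : n ∈ Submodule.span A (Set.range m) := hn
          clear hn
          induction hn' using Submodule.span_induction with
          | mem x hx =>
            obtain ⟨i, rfl⟩ := hx
            exact Submodule.subset_span ⟨i, rfl⟩
          | zero => rw [TensorProduct.tmul_zero]; exact zero_mem _
          | add x y hx hy ihx ihy =>
            rw [TensorProduct.tmul_add]
            exact add_mem ihx ihy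
          | smul a x hx ih =>
            rw [← TensorProduct.smul_tmul, ← TensorProduct.smul_tmul']
            have h1 : a • ((1 : r.ResidueField) ⊗ₜ[A] x) =
                (algebraMap A r.ResidueField a) • ((1 : r.ResidueField) ⊗ₜ[A] x) := by
              rw [algebraMap_smul]
            rw [h1]
            exact Submodule.smul_mem _ _ ih
      · intro hx
        induction hx using Submodule.span_induction with
        | mem x hx =>
          obtain ⟨i, rfl⟩ := hx
          exact ⟨1 ⊗ₜ ⟨m i, Submodule.subset_span ⟨i, rfl⟩⟩, rfl⟩
        | zero => exact zero_mem _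
        | add x y _ _ ihx ihy => exact add_mem ihx ihy
        | smul c x _ ih =>
          obtain ⟨y, hy⟩ := ih
          refine ⟨c • y, ?_⟩
          rw [← hy]
          clear hy
          induction y with
          | zero => simp
          | add a b ha hb => rw [smul_add, map_add, map_add, smul_add, ha, hb]
          | tmul d n => rw [TensorProduct.smul_tmul', LinearMap.lTensor_tmul, LinearMap.lTensor_tmul,
              TensorProduct.smul_tmul']
    constructor
    · intro htop
      refine subsingleton_of_forall_eq 0 fun y => ?_
      obtain ⟨x, rfl⟩ := hsurj y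
      refine (hex x).mpr ?_
      exact (hrange x).mpr (htop ▸ trivial)
    · intro hsub
      refine eq_top_iff.mpr fun x _ => (hrange x).mp ((hex x).mp (Subsingleton.elim _ _))
  rw [key] at h ⊢
  by_contra hcon
  rw [not_subsingleton_iff_nontrivial] at hcon
  have h1 : (⟨q, inferInstance⟩ : PrimeSpectrum A) ∈ Module.support A (M ⧸ N) :=
    (Module.mem_support_iff_nontrivial_residueField_tensorProduct (R := A) (M := M ⧸ N)
      ⟨q, inferInstance⟩).mpr hcon
  have h2 : (⟨p, inferInstance⟩ : PrimeSpectrum A) ∈ Module.support A (M ⧸ N) :=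
    Module.mem_support_mono (p := ⟨q, inferInstance⟩) (q := ⟨p, inferInstance⟩) hqp h1
  have h3 := (Module.mem_support_iff_nontrivial_residueField_tensorProduct (R := A) (M := M ⧸ N)
      ⟨p, inferInstance⟩).mp h2
  exact not_nontrivial_iff_subsingleton.mpr h h3

/-- The fibre rank of a finite module does not decrease under specialization. -/
theorem finrank_residueField_le (p q : Ideal A) [p.IsPrime] [q.IsPrime] (hqp : q ≤ p) :
    Module.finrank q.ResidueField (q.ResidueField ⊗[A] M) ≤
      Module.finrank p.ResidueField (p.ResidueField ⊗[A] M) := by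
  set r := Module.finrank p.ResidueField (p.ResidueField ⊗[A] M) with hr
  -- choose `r` elements of `M` whose classes form a basis of the fibre at `p`
  have hspan : Submodule.span p.ResidueField
      (Set.range fun m : M => (1 : p.ResidueField) ⊗ₜ[A] m) = ⊤ := by
    rw [eq_top_iff]
    intro x _
    induction x with
    | zero => exact zero_mem _
    | add a b ha hb => exact add_mem (ha trivial) (hb trivial)
    | tmul c m =>
      have : c ⊗ₜ[A] m = c • ((1 : p.ResidueField) ⊗ₜ[A] m) := by
        rw [TensorProduct.smul_tmul', smul_eq_mul, mul_one]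
      rw [this]
      exact Submodule.smul_mem _ _ (Submodule.subset_span ⟨m, rfl⟩)
  obtain ⟨s, hs1, hs2, hs3⟩ := exists_linearIndependent p.ResidueField
    (Set.range fun m : M => (1 : p.ResidueField) ⊗ₜ[A] m)
  rw [hspan] at hs2
  have hsfin : s.Finite := hs3.setFinite
  have hcard : s.ncard = r := by
    have := hs3.finite_of_isNoetherian
    let b : Module.Basis s p.ResidueField (p.ResidueField ⊗[A] M) :=
      Module.Basis.mk hs3 (by rw [Subtype.range_coe]; exact hs2.ge)
    rw [hr, Module.finrank_eq_nat_card_basis b, Nat.card_coe_set_eq]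
  choose! m hm using fun (x : p.ResidueField ⊗[A] M) (hx : x ∈ s) => hs1 hx
  have h1 : Submodule.span p.ResidueField
      (Set.range fun i : s => (1 : p.ResidueField) ⊗ₜ[A] m i) = ⊤ := by
    rw [← hs2]
    congr 1
    ext y
    constructor
    · rintro ⟨i, rfl⟩
      have := hm i i.2
      change (1 : p.ResidueField) ⊗ₜ[A] m i ∈ s
      have h2 : (1 : p.ResidueField) ⊗ₜ[A] m i = (i : p.ResidueField ⊗[A] M) := this
      rw [h2]
      exact i.2
    · intro hy
      exact ⟨⟨y, hy⟩, hm y hy⟩
  have h2 := span_fibre_of_le p q hqp (fun i : s => m i) h1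
  have : Finite s := hsfin
  have := Fintype.ofFinite s
  have h3 : Module.finrank q.ResidueField (⊤ : Submodule q.ResidueField (q.ResidueField ⊗[A] M)) ≤
      Fintype.card s := by
    rw [← h2]
    exact finrank_range_le_card _
  rw [finrank_top] at h3
  rw [← hcard, ← Nat.card_coe_set_eq, Nat.card_eq_fintype_card]
  exact h3

end fibre

end Groth.Agent.Ega4late.H539.RankLin
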